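import Mathlib

/-!
Families of maps into flat algebras which are jointly injective on the fibres are jointly injective.
-/

set_option autoImplicit false
set_option linter.style.haveILetI false
universe u
open TensorProduct
open scoped TensorProduct

namespace Groth.Agent.H21Dense

/-- injectivity modulo the maximal ideal implies infinitely divisible kernels -/
theorem mem_map_pow {R A : Type u} [CommRing R] [IsLocalRing R] [IsNoetherianRing R] [CommRing A] [Algebra R A]
    {ι : Type u} (B : ι → Type u) [∀ b, CommRing (B b)] [∀ b, Algebra R (B b)] [∀ b, Module.Flat R (B b)]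
    (φ : ∀ b, A →ₐ[R] B b)
    (h : ∀ x : A, (∀ b, φ b x ∈ (IsLocalRing.maximalIdeal R).map (algebraMap R (B b))) →
      x ∈ (IsLocalRing.maximalIdeal R).map (algebraMap R A))
    (x : A) (hx : ∀ b, φ b x = 0) (i : ℕ) : x ∈ (IsLocalRing.maximalIdeal R ^ i).map (algebraMap R A) := by
  classical
  induction i with
  | zero => simp [Ideal.map_top]
  | succ i ih =>
    let I := IsLocalRing.maximalIdeal R ^ i
    have hex : ∃ n : ℕ, ∃ a : Fin n → R, Ideal.span (Set.range a) = I := by
      obtain ⟨n, a, ha⟩ := Submodule.fg_iff_exists_fin_generating_family.mp (IsNoetherian.noetherian I)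
      exact ⟨n, a, ha⟩
    obtain ⟨a, ha⟩ := Nat.find_spec hex
    have hmin : ∀ r : Fin (Nat.find hex) → R, ∑ j, r j * a j = 0 → ∀ j, r j ∈ IsLocalRing.maximalIdeal R := by
      intro r hr j
      by_contra hj
      have hu : IsUnit (r j) := by simpa [IsLocalRing.mem_maximalIdeal, mem_nonunits_iff] using hj
      have hpos : 0 < Nat.find hex := j.pos
      obtain ⟨m, hm⟩ : ∃ m, Nat.find hex = m + 1 := ⟨_, (Nat.succ_pred_eq_of_pos hpos).symm⟩
      let j' : Fin (m + 1) := Fin.cast hm j
      let a' : Fin m → R := fun l => a (Fin.cast hm.symm (j'.succAbove l))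
      refine Nat.find_min hex (m := m) (by omega) ⟨a', le_antisymm ?_ ?_⟩
      · rw [Ideal.span_le]
        rintro _ ⟨l, rfl⟩
        exact ha.le (Ideal.subset_span ⟨_, rfl⟩)
      · rw [← ha, Ideal.span_le]
        rintro _ ⟨l, rfl⟩
        have hothers : ∀ l, l ≠ j → a l ∈ Ideal.span (Set.range a') := fun l hl => by
          obtain ⟨q, hq⟩ := Fin.exists_succAbove_eq (x := Fin.cast hm l) (y := j')
            (fun h => hl (Fin.cast_injective _ h))
          exact Ideal.subset_span ⟨q, by simp [a', hq]⟩
        by_cases hl : l = j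
        · subst hl
          rw [← Finset.add_sum_erase _ _ (Finset.mem_univ l), add_eq_zero_iff_eq_neg] at hr
          show a l ∈ Ideal.span (Set.range a')
          rw [← Ideal.unit_mul_mem_iff_mem _ hu, hr]
          exact neg_mem (sum_mem fun q hq => Ideal.mul_mem_left _ _ (hothers q (Finset.ne_of_mem_erase hq)))
        · exact hothers l hl
    have hx' : x ∈ Ideal.span (Set.range (algebraMap R A ∘ a)) := by
      rw [Set.range_comp, ← Ideal.map_span, ha]; exact ih
    obtain ⟨c, hc⟩ := Ideal.mem_span_range_iff_exists_fun.mp hx'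
    rw [← hc]
    refine sum_mem fun j _ => ?_
    have hcm : c j ∈ (IsLocalRing.maximalIdeal R).map (algebraMap R A) := by
      refine h _ fun b => ?_
      have h0 : ∑ l, a l • φ b (c l) = 0 := by
        rw [← hx b, ← hc, map_sum]
        refine Finset.sum_congr rfl fun l _ => ?_
        rw [map_mul, Function.comp_apply, AlgHom.commutes, Algebra.smul_def, mul_comm]
      obtain ⟨k, r, y, hy, hr⟩ := Module.Flat.isTrivialRelation_of_sum_smul_eq_zero (R := R) (M := B b) (f := a) (x := fun l => φ b (c l)) (by simpa only [Algebra.smul_def] using h0)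
      rw [show φ b (c j) = _ from hy j]
      refine sum_mem fun q _ => ?_
      rw [Algebra.smul_def]
      refine Ideal.mul_mem_right _ _ (Ideal.mem_map_of_mem _ (hmin (fun l => r l q) ?_ j))
      rw [← hr q]
      exact Finset.sum_congr rfl fun l _ => mul_comm _ _
    rw [pow_succ', Ideal.map_mul]
    exact Ideal.mul_mem_mul hcm (Ideal.mem_map_of_mem _ (ha.le (Ideal.subset_span ⟨j, rfl⟩)))

section field

variable {R A : Type u} [CommRing R] [CommRing A] [Algebra R A]
  {ι : Type u} (B : ι → Type u) [∀ b, CommRing (B b)] [∀ b, Algebra R (B b)] (φ : ∀ b, A →ₐ[R] B b)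

/-- the maps are jointly injective after base change -/
def InjAfter (K : Type u) [CommRing K] [Algebra R K] : Prop :=
  ∀ z : K ⊗[R] A, (∀ b, (φ b).toLinearMap.lTensor K z = 0) → z = 0

variable {B φ}

theorem InjAfter.up {F K : Type u} [Field F] [Algebra R F] [CommRing K] [Algebra R K] [Algebra F K]
    [IsScalarTower R F K] (h : InjAfter B φ F) : InjAfter B φ K := by
  classical
  intro z hz
  let ι' := Module.Free.ChooseBasisIndex F K
  let E : K ≃ₗ[R] (ι' →₀ F) := (Module.Free.chooseBasis F K).repr.restrictScalars R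
  apply (E.rTensor A).injective
  rw [map_zero]
  apply (TensorProduct.finsuppLeft R R F A ι').injective
  rw [map_zero]
  ext l
  rw [Finsupp.zero_apply, TensorProduct.finsuppLeft_apply]
  apply h
  intro b
  have : (φ b).toLinearMap.lTensor F ((Finsupp.lapply l).rTensor A (E.toLinearMap.rTensor A z)) =
      (Finsupp.lapply l).rTensor (B b) (E.toLinearMap.rTensor (B b) ((φ b).toLinearMap.lTensor K z)) := by
    rw [← LinearMap.rTensor_comp_apply, ← LinearMap.rTensor_comp_apply, ← LinearMap.comp_apply,
      ← LinearMap.comp_apply, LinearMap.lTensor_comp_rTensor, LinearMap.rTensor_comp_lTensor]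
  exact this.trans (by rw [hz b, map_zero, map_zero])

theorem InjAfter.down {F K : Type u} [Field F] [Algebra R F] [CommRing K] [Nontrivial K] [Algebra R K] [Algebra F K]
    [IsScalarTower R F K] (h : InjAfter B φ K) : InjAfter B φ F := by
  intro z hz
  obtain ⟨r, hr⟩ := (Algebra.linearMap F K).exists_leftInverse_of_injective
    (LinearMap.ker_eq_bot.mpr (algebraMap F K).injective)
  let j : F →ₗ[R] K := (Algebra.linearMap F K).restrictScalars R
  have h0 : j.rTensor A z = 0 := by
    refine h _ fun b => ?_
    rw [← LinearMap.comp_apply, LinearMap.lTensor_comp_rTensor, ← LinearMap.rTensor_comp_lTensor,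
      LinearMap.comp_apply, hz b, map_zero]
  have := congrArg ((r.restrictScalars R).rTensor A) h0
  rw [map_zero, ← LinearMap.rTensor_comp_apply] at this
  rw [← this, show r.restrictScalars R ∘ₗ j = LinearMap.id from LinearMap.ext fun y => LinearMap.congr_fun hr y,
    LinearMap.rTensor_id, LinearMap.id_apply]

/-- fibrewise joint injectivity implies joint injectivity over a Noetherian base -/
theorem eq_zero_of_injAfter [Algebra.FiniteType R A] [∀ b, Module.Flat R (B b)]
    (hp : ∀ (p : Ideal R) [p.IsPrime], ∃ (K : Type u) (_ : Field K) (_ : Algebra R K),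
      RingHom.ker (algebraMap R K) = p ∧ InjAfter B φ K)
    (R' : Type u) [CommRing R'] [Algebra R R'] [IsNoetherianRing R']
    (x : R' ⊗[R] A) (hx : ∀ b, (φ b).toLinearMap.lTensor R' x = 0) : x = 0 := by
  refine eq_zero_of_localization x fun n hn => ?_
  let A' := R' ⊗[R] A
  haveI : IsNoetherianRing A' := Algebra.FiniteType.isNoetherianRing R' A'
  let p' : Ideal R' := n.comap (algebraMap R' A')
  let L := Localization.AtPrime p'
  let An := Localization.AtPrime n
  let k := IsLocalRing.ResidueField L
  -- joint injectivity at the residue field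
  have hk : InjAfter B φ k := by
    let p : Ideal R := RingHom.ker (algebraMap R k)
    haveI : p.IsPrime := RingHom.ker_isPrime _
    obtain ⟨K, _, _, hK, hinj⟩ := hp p
    have hu : ∀ (F : Type u) [Field F] (f : R →+* F), RingHom.ker f = p → p.primeCompl ≤ (IsUnit.submonoid F).comap f :=
      fun F _ f hf r hr => isUnit_iff_ne_zero.mpr fun h => hr (hf ▸ h)
    letI : Algebra p.ResidueField K :=
      (Ideal.ResidueField.lift p (algebraMap R K) hK.ge (hu K _ hK)).toAlgebra
    letI : Algebra p.ResidueField k :=
      (Ideal.ResidueField.lift p (algebraMap R k) le_rfl (hu k _ rfl)).toAlgebra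
    haveI : IsScalarTower R p.ResidueField K := .of_algebraMap_eq fun r => (Ideal.ResidueField.lift_algebraMap ..).symm
    haveI : IsScalarTower R p.ResidueField k := .of_algebraMap_eq fun r => (Ideal.ResidueField.lift_algebraMap ..).symm
    exact (InjAfter.down (F := p.ResidueField) hinj).up
  -- the algebra over the local ring
  let φL : ∀ b, L ⊗[R] A →ₐ[L] L ⊗[R] B b := fun b => Algebra.TensorProduct.map (AlgHom.id L L) (φ b)
  have hres : ∀ (C : Type u) [CommRing C] [Algebra R C] (z : L ⊗[R] C),
      z ∈ (IsLocalRing.maximalIdeal L).map (algebraMap L (L ⊗[R] C)) ↔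
        (IsScalarTower.toAlgHom R L k).toLinearMap.rTensor C z = 0 := by
    intro C _ _ z
    have hker := Algebra.TensorProduct.rTensor_ker (R := R) (C := C) (IsScalarTower.toAlgHom R L k)
      IsLocalRing.residue_surjective
    have hker' : RingHom.ker (IsScalarTower.toAlgHom R L k) = IsLocalRing.maximalIdeal L := IsLocalRing.ker_residue
    rw [hker'] at hker
    exact (SetLike.ext_iff.mp hker z).symm
  let g : L →+* An := Localization.localRingHom p' n (algebraMap R' A') rfl
  have hg : ∀ r, g (algebraMap R' L r) = algebraMap A' An (algebraMap R' A' r) :=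
    fun r => Localization.localRingHom_to_map p' n _ rfl r
  let gₐ : L →ₐ[R] An := AlgHom.mk' g fun r z => by
    rw [Algebra.smul_def, map_mul, IsScalarTower.algebraMap_apply R R' L, hg,
      ← IsScalarTower.algebraMap_apply R R' A', ← IsScalarTower.algebraMap_apply R A' An, ← Algebra.smul_def]
  let toAn : L ⊗[R] A →ₐ[R] An := Algebra.TensorProduct.lift gₐ
    ((IsScalarTower.toAlgHom R A' An).comp Algebra.TensorProduct.includeRight) fun _ _ => Commute.all _ _
  let f : A' →ₐ[R] L ⊗[R] A := Algebra.TensorProduct.map (IsScalarTower.toAlgHom R R' L) (AlgHom.id R A)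
  have htoAn : toAn.comp f = IsScalarTower.toAlgHom R A' An := by
    refine Algebra.TensorProduct.ext (AlgHom.ext fun r => ?_) (AlgHom.ext fun a => ?_)
    · simp [toAn, f, gₐ, hg]; rfl
    · simp [toAn, f]; rfl
  have hmem : ∀ i, f x ∈ (IsLocalRing.maximalIdeal L ^ i).map (algebraMap L (L ⊗[R] A)) := by
    refine mem_map_pow (fun b => L ⊗[R] B b) φL (fun z hz => ?_) (f x) fun b => ?_
    · rw [hres]
      refine hk _ fun b => ?_
      have := (hres (B b) _).mp (hz b)
      rw [← this]
      change ((φ b).toLinearMap.lTensor k ∘ₗ _) z = ((IsScalarTower.toAlgHom R L k).toLinearMap.rTensor (B b) ∘ₗ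
        (φ b).toLinearMap.lTensor L) z
      rw [LinearMap.lTensor_comp_rTensor, LinearMap.rTensor_comp_lTensor]
    · change ((φ b).toLinearMap.lTensor L ∘ₗ (IsScalarTower.toAlgHom R R' L).toLinearMap.rTensor A) x = 0
      rw [LinearMap.lTensor_comp_rTensor, ← LinearMap.rTensor_comp_lTensor, LinearMap.comp_apply, hx b, map_zero]
  have hx0 : algebraMap A' An x ∈ ⨅ i, IsLocalRing.maximalIdeal An ^ i := by
    rw [Ideal.mem_iInf]
    intro i
    rw [show algebraMap A' An x = toAn (f x) from (AlgHom.congr_fun htoAn x).symm]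
    have hle : ((IsLocalRing.maximalIdeal L ^ i).map (algebraMap L (L ⊗[R] A))).map toAn ≤
        IsLocalRing.maximalIdeal An ^ i := by
      rw [← Ideal.map_coe toAn, Ideal.map_map, Ideal.map_pow]
      refine Ideal.pow_right_mono (Ideal.map_le_iff_le_comap.mpr fun l hl => ?_) i
      rw [Ideal.mem_comap, RingHom.comp_apply]
      change toAn (l ⊗ₜ[R] 1) ∈ _
      rw [show toAn (l ⊗ₜ[R] 1) = g l by simp [toAn, gₐ]]
      haveI := Localization.isLocalHom_localRingHom p' n (algebraMap R' A') rfl
      exact fun hu => hl (hu.of_map g l)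
    exact hle (Ideal.mem_map_of_mem _ (hmem i))
  rwa [Ideal.iInf_pow_eq_bot_of_isLocalRing _ (IsLocalRing.maximalIdeal.isMaximal An).ne_top, Ideal.mem_bot] at hx0

end field

end Groth.Agent.H21Dense
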