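import Groth.Agent.H21Dense.Algebra
import Groth.Prelude.Def_MoreMor

/-!
Universal schematic density of a family of flat schemes which is dense on the fibres.
-/

set_option autoImplicit false
set_option linter.style.haveILetI false
set_option backward.isDefEq.respectTransparency false
universe u
open CategoryTheory CategoryTheory.Limits AlgebraicGeometry
open scoped TensorProduct

namespace Groth.Agent.H21Dense

/-- the family is schematically dense on every fibre -/
def FibDense {S H : Scheme.{u}} {ι : Type} (p : H ⟶ S) (N : ι → Scheme.{u}) (i : ∀ d, N d ⟶ H) : Prop :=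
  ∀ (s : S) (V : (p.fiber s).Opens) (t : Γ(p.fiber s, V)),
    (∀ d, (MoreMor.fiberMap (i d) p s).app V t = 0) → t = 0

section chart

variable {R R' A : Type u} [CommRing R] [CommRing R'] [CommRing A] [Algebra R R'] [Algebra R A]
  {H S Z : Scheme.{u}} {p : H ⟶ S} {g : Z ⟶ S}
  (a : Spec (CommRingCat.of R) ⟶ S) (w : Spec (CommRingCat.of A) ⟶ H) (c : Spec (CommRingCat.of R') ⟶ Z)

/-- the product of affine charts inside a fibre product -/
noncomputable def chart (hw : w ≫ p = Spec.map (CommRingCat.ofHom (algebraMap R A)) ≫ a)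
    (hc : c ≫ g = Spec.map (CommRingCat.ofHom (algebraMap R R')) ≫ a) :
    Spec (CommRingCat.of (R' ⊗[R] A)) ⟶ pullback p g :=
  (pullbackSpecIso R R' A).inv ≫ (pullbackSymmetry _ _).hom ≫ pullback.map _ _ p g w c a hw.symm hc.symm

variable {a w c} (hw : w ≫ p = Spec.map (CommRingCat.ofHom (algebraMap R A)) ≫ a)
  (hc : c ≫ g = Spec.map (CommRingCat.ofHom (algebraMap R R')) ≫ a)

@[reassoc]
theorem chart_fst : chart a w c hw hc ≫ pullback.fst p g =
    Spec.map (CommRingCat.ofHom (Algebra.TensorProduct.includeRight : A →ₐ[R] R' ⊗[R] A).toRingHom) ≫ w := by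
  simp [chart]

@[reassoc]
theorem chart_snd : chart a w c hw hc ≫ pullback.snd p g =
    Spec.map (CommRingCat.ofHom (Algebra.TensorProduct.includeLeftRingHom : R' →+* R' ⊗[R] A)) ≫ c := by
  simp [chart]

theorem isOpenImmersion_chart [IsOpenImmersion a] [IsOpenImmersion w] [IsOpenImmersion c] :
    IsOpenImmersion (chart a w c hw hc) := by
  unfold chart; infer_instance

theorem range_chart [IsOpenImmersion a] :
    Set.range (chart a w c hw hc) = pullback.fst p g ⁻¹' Set.range w ∩ pullback.snd p g ⁻¹' Set.range c := by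
  rw [← Scheme.Pullback.range_map _ _ p g w c a hw.symm hc.symm, chart,
    ← Category.assoc, Scheme.Hom.comp_base, TopCat.coe_comp]
  exact ((pullbackSpecIso R R' A).inv ≫ (pullbackSymmetry _ _).hom).homeomorph.surjective.range_comp _

end chart

/-- affine charts of a member of the family over a chart of `H` -/
structure Piece {H : Scheme.{u}} {A : Type u} [CommRing A] (w : Spec (CommRingCat.of A) ⟶ H) {N : Scheme.{u}} (i : N ⟶ H) where
  /-- the open set -/
  U : N.Opens
  affine : IsAffineOpen U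
  le : ∀ x ∈ U, i x ∈ Set.range w

namespace Piece

variable {H : Scheme.{u}} {A : Type u} [CommRing A] {w : Spec (CommRingCat.of A) ⟶ H} [IsOpenImmersion w]
  {N : Scheme.{u}} {i : N ⟶ H} (P : Piece w i)

/-- the ring map of a piece -/
noncomputable def hom : A →+* Γ(N, P.U) :=
  (Spec.preimage (IsOpenImmersion.lift w (P.affine.fromSpec ≫ i) (by
    rintro _ ⟨z, rfl⟩
    rw [Scheme.Hom.comp_apply]
    exact P.le _ (by rw [← SetLike.mem_coe, ← P.affine.range_fromSpec]; exact ⟨z, rfl⟩))) :
      CommRingCat.of A ⟶ Γ(N, P.U)).hom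

theorem fac : Spec.map (CommRingCat.ofHom P.hom) ≫ w = P.affine.fromSpec ≫ i := by
  rw [hom, CommRingCat.ofHom_hom, Spec.map_preimage, IsOpenImmersion.lift_fac]

end Piece

variable {S H : Scheme.{u}} {ι : Type} {p : H ⟶ S} {N : ι → Scheme.{u}} {i : ∀ d, N d ⟶ H}

/-- density on the fibres, read on affine charts -/
theorem injAfter_of_fibDense (hd : FibDense p N i) {R A : Type u} [CommRing R] [CommRing A] [Algebra R A]
    (a : Spec (CommRingCat.of R) ⟶ S) [IsOpenImmersion a] (w : Spec (CommRingCat.of A) ⟶ H) [IsOpenImmersion w]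
    (hw : w ≫ p = Spec.map (CommRingCat.ofHom (algebraMap R A)) ≫ a)
    (B : (Σ d : ULift.{u} ι, Piece w (i d.down)) → Type u) [∀ P, CommRing (B P)] [∀ P, Algebra R (B P)]
    (φ : ∀ P, A →ₐ[R] B P) (b : ∀ P, Spec (CommRingCat.of (B P)) ⟶ N P.1.down) [∀ P, IsOpenImmersion (b P)]
    (hr : ∀ P, Set.range (b P) = (P.2.U : Set (N P.1.down)))
    (hb : ∀ P, b P ≫ i P.1.down = Spec.map (CommRingCat.ofHom (φ P).toRingHom) ≫ w)
    (q : PrimeSpectrum R) :
    ∃ (K : Type u) (_ : Field K) (_ : Algebra R K),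
      RingHom.ker (algebraMap R K) = q.asIdeal ∧ InjAfter B φ K := by
  let s : S := a q
  let r : Spec (S.residueField s) ⟶ Spec (CommRingCat.of R) := IsOpenImmersion.lift a (S.fromSpecResidueField s)
    (by rw [Scheme.range_fromSpecResidueField]; exact Set.singleton_subset_iff.mpr ⟨q, rfl⟩)
  letI alg : Algebra R (S.residueField s) := (Spec.preimage r).hom.toAlgebra
  have hr' : Spec.map (CommRingCat.ofHom (algebraMap R (S.residueField s))) = r := by
    rw [RingHom.algebraMap_toAlgebra, CommRingCat.ofHom_hom, Spec.map_preimage]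
  have hc : S.fromSpecResidueField s = Spec.map (CommRingCat.ofHom (algebraMap R (S.residueField s))) ≫ a := by
    rw [hr', IsOpenImmersion.lift_fac]
  refine ⟨S.residueField s, inferInstance, alg, ?_, fun z hz => ?_⟩
  · let pt : Spec (S.residueField s) := (⊥ : PrimeSpectrum (S.residueField s))
    have h1 : r pt = q := a.isOpenEmbedding.injective (by
      rw [← Scheme.Hom.comp_apply, IsOpenImmersion.lift_fac]
      exact Scheme.fromSpecResidueField_apply s pt)
    rw [← h1, ← hr']
    rfl
  · let K : Type u := S.residueField s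
    let c : Spec (CommRingCat.of K) ⟶ Spec (S.residueField s) := 𝟙 _
    have hc' : c ≫ S.fromSpecResidueField s = Spec.map (CommRingCat.ofHom (algebraMap R K)) ≫ a :=
      (Category.id_comp _).trans hc
    let e : Spec (CommRingCat.of (K ⊗[R] A)) ⟶ p.fiber s := chart (p := p) (g := S.fromSpecResidueField s) a w c hw hc'
    haveI : IsOpenImmersion e := isOpenImmersion_chart (p := p) (g := S.fromSpecResidueField s) hw hc'
    let z' : Γ(Spec (CommRingCat.of (K ⊗[R] A)), ⊤) := (Scheme.ΓSpecIso _).inv z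
    let t : Γ(p.fiber s, e ''ᵁ ⊤) := (e.appIso ⊤).inv z'
    suffices t = 0 by
      have : (e.appIso ⊤).hom t = 0 := by rw [this, map_zero]
      rw [Iso.inv_hom_id_apply] at this
      have := congrArg (Scheme.ΓSpecIso _).hom this
      rwa [Iso.inv_hom_id_apply, map_zero] at this
    refine hd s _ t fun d => ?_
    let F := MoreMor.fiberMap (i d) p s
    refine TopCat.Presheaf.section_ext ((i d ≫ p).fiber s).sheaf _ _ _ fun x hx => ?_
    rw [map_zero]
    -- a piece containing the point
    let y : N d := (i d ≫ p).fiberι s x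
    have hy : i d y ∈ Set.range w := by
      obtain ⟨v, -, hv⟩ := hx
      have h1 : e v ∈ Set.range e := ⟨v, rfl⟩
      replace h1 : e v ∈ Set.range (chart (p := p) (g := S.fromSpecResidueField s) a w c hw hc') := h1
      rw [range_chart (p := p) (g := S.fromSpecResidueField s) hw hc'] at h1
      have h2 : pullback.fst p (S.fromSpecResidueField s) (F x) = i d y := by
        show (F ≫ pullback.fst p (S.fromSpecResidueField s)) x = ((i d ≫ p).fiberι s ≫ i d) x
        rw [show F ≫ pullback.fst p (S.fromSpecResidueField s) = _ from pullback.lift_fst _ _ _]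
      obtain ⟨r, hr₁⟩ := h1.1
      exact ⟨r, hr₁.trans ((congrArg (fun q => pullback.fst p (S.fromSpecResidueField s) q) hv).trans h2)⟩
    obtain ⟨U, hU, hyU, hle⟩ := exists_isAffineOpen_mem_and_subset
      (U := i d ⁻¹ᵁ w.opensRange) (x := y) hy
    let P : Σ d : ULift.{u} ι, Piece w (i d.down) := ⟨⟨d⟩, U, hU, fun x hx => hle hx⟩
    have hwb : b P ≫ i d ≫ p = Spec.map (CommRingCat.ofHom (algebraMap R (B P))) ≫ a := by
      rw [← Category.assoc, hb P, Category.assoc, hw, ← Category.assoc, ← Spec.map_comp]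
      congr 2
      exact CommRingCat.hom_ext (φ P).comp_algebraMap
    let eb : Spec (CommRingCat.of (K ⊗[R] B P)) ⟶ (i d ≫ p).fiber s :=
      chart (p := i d ≫ p) (g := S.fromSpecResidueField s) a (b P) c hwb hc'
    haveI : IsOpenImmersion eb := isOpenImmersion_chart (p := i d ≫ p) (g := S.fromSpecResidueField s) hwb hc'
    let θ : K ⊗[R] A →ₐ[R] K ⊗[R] B P := Algebra.TensorProduct.map (AlgHom.id R K) (φ P)
    have hsq : eb ≫ F = Spec.map (CommRingCat.ofHom θ.toRingHom) ≫ e := by
      refine pullback.hom_ext ?_ ?_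
      · rw [Category.assoc, Category.assoc,
          show F ≫ pullback.fst p (S.fromSpecResidueField s) = _ from pullback.lift_fst _ _ _,
          chart_fst (p := p) (g := S.fromSpecResidueField s) hw hc']
        show eb ≫ pullback.fst (i d ≫ p) (S.fromSpecResidueField s) ≫ i d = _
        rw [chart_fst_assoc (p := i d ≫ p) (g := S.fromSpecResidueField s) hwb hc', hb P, ← Category.assoc,
          ← Category.assoc, ← Spec.map_comp, ← Spec.map_comp]
        congr 2
      · rw [Category.assoc, Category.assoc,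
          show F ≫ pullback.snd p (S.fromSpecResidueField s) = _ from pullback.lift_snd _ _ _,
          chart_snd (p := p) (g := S.fromSpecResidueField s) hw hc']
        show eb ≫ pullback.snd (i d ≫ p) (S.fromSpecResidueField s) = _
        rw [chart_snd (p := i d ≫ p) (g := S.fromSpecResidueField s) hwb hc', ← Category.assoc, ← Spec.map_comp]
        congr 2
        exact CommRingCat.hom_ext (RingHom.ext fun v => by simp [θ])
    have hxr : x ∈ eb.opensRange := by
      show x ∈ Set.range (chart (p := i d ≫ p) (g := S.fromSpecResidueField s) a (b P) c hwb hc')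
      rw [range_chart (p := i d ≫ p) (g := S.fromSpecResidueField s) hwb hc']
      refine ⟨?_, ?_⟩
      · show y ∈ Set.range (b P)
        rw [hr P]; exact hyU
      · exact ⟨_, rfl⟩
    have htop : ⊤ ≤ eb ⁻¹ᵁ F ⁻¹ᵁ e ''ᵁ ⊤ := by
      intro v _
      show (eb ≫ F) v ∈ e ''ᵁ ⊤
      rw [hsq]
      exact ⟨_, trivial, rfl⟩
    have hzero : (eb ≫ F).appLE (e ''ᵁ ⊤) ⊤ htop t = 0 := by
      have hθ : θ z = 0 := hz P
      simp only [hsq]
      rw [← Scheme.Hom.appLE_comp_appLE (V := ⊤) _ _ _ _ ((Scheme.Hom.preimage_image_eq e ⊤).ge) le_top]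
      show (Spec.map (CommRingCat.ofHom θ.toRingHom)).appLE ⊤ ⊤ le_top
        (((e.appIso ⊤).inv ≫ e.appLE (e ''ᵁ ⊤) ⊤ (Scheme.Hom.preimage_image_eq e ⊤).ge) z') = 0
      rw [← Scheme.Hom.appIso_hom', Iso.inv_hom_id]
      show (Spec.map (CommRingCat.ofHom θ.toRingHom)).appLE ⊤ ⊤ le_top ((Scheme.ΓSpecIso _).inv z) = 0
      rw [show (Spec.map (CommRingCat.ofHom θ.toRingHom)).appLE ⊤ ⊤ le_top =
        (Spec.map (CommRingCat.ofHom θ.toRingHom)).appTop from (Scheme.Hom.app_eq_appLE _).symm]
      show ((Scheme.ΓSpecIso _).inv ≫ (Spec.map (CommRingCat.ofHom θ.toRingHom)).appTop) z = 0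
      rw [← Scheme.ΓSpecIso_inv_naturality]
      show (Scheme.ΓSpecIso (CommRingCat.of (K ⊗[R] B P))).inv (θ z) = 0
      rw [hθ, map_zero]
    -- conclude at the point
    have hV : eb ''ᵁ ⊤ ≤ F ⁻¹ᵁ e ''ᵁ ⊤ := by
      rintro _ ⟨v, -, rfl⟩
      exact htop (show v ∈ (⊤ : (Spec (CommRingCat.of (K ⊗[R] B P))).Opens) from trivial)
    have hres : ((i d ≫ p).fiber s).presheaf.map (homOfLE hV).op (F.app (e ''ᵁ ⊤) t) = 0 := by
      apply (eb.appIso ⊤).commRingCatIsoToRingEquiv.injective
      rw [map_zero, ← hzero]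
      show (((i d ≫ p).fiber s).presheaf.map (homOfLE hV).op ≫ (eb.appIso ⊤).hom) (F.app (e ''ᵁ ⊤) t) = _
      rw [Scheme.Hom.appIso_hom', Scheme.Hom.map_appLE, Scheme.Hom.comp_appLE]
      rfl
    have := congrArg (((i d ≫ p).fiber s).presheaf.germ _ x
      (show x ∈ eb ''ᵁ ⊤ by obtain ⟨v, hv⟩ := hxr; exact ⟨v, trivial, hv⟩)) hres
    rw [map_zero] at this
    refine Eq.trans ?_ this
    exact (TopCat.Presheaf.germ_res_apply ((i d ≫ p).fiber s).presheaf (homOfLE hV) x _ _).symm

/-- a closed subscheme containing a flat family dense on the fibres is everything -/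
theorem isIso_of_contains [∀ d, Flat (i d ≫ p)] [LocallyOfFiniteType p] (hd : FibDense p N i)
    {Z : Scheme.{u}} [IsLocallyNoetherian Z] (g : Z ⟶ S) {Y : Scheme.{u}} (y : Y ⟶ pullback p g) [IsClosedImmersion y]
    (hy : ∀ (d : ι) (X : Scheme.{u}) (u : X ⟶ N d) (v : X ⟶ Z) (h : (u ≫ i d) ≫ p = v ≫ g),
      ∃ l : X ⟶ Y, l ≫ y = pullback.lift (u ≫ i d) v h) :
    IsIso y := by
  have key : ∀ x : ↥(pullback p g), ∃ (X : Scheme.{u}) (e : X ⟶ pullback p g), IsOpenImmersion e ∧
      x ∈ Set.range e ∧ ∃ l, l ≫ y = e := by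
    intro x
    obtain ⟨V, hV, hxV, -⟩ := exists_isAffineOpen_mem_and_subset (U := (⊤ : S.Opens))
      (x := p (pullback.fst p g x)) trivial
    obtain ⟨W, hW, hxW, hWV⟩ := exists_isAffineOpen_mem_and_subset (U := p ⁻¹ᵁ V) (x := pullback.fst p g x) hxV
    have hxg : g (pullback.snd p g x) ∈ V := by
      rw [← Scheme.Hom.comp_apply, ← pullback.condition, Scheme.Hom.comp_apply]; exact hxV
    obtain ⟨V', hV', hxV', hV'V⟩ := exists_isAffineOpen_mem_and_subset (U := g ⁻¹ᵁ V) (x := pullback.snd p g x) hxg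
    let R : Type u := Γ(S, V)
    let A : Type u := Γ(H, W)
    let R' : Type u := Γ(Z, V')
    letI : Algebra R A := (p.appLE V W hWV).hom.toAlgebra
    letI : Algebra R R' := (g.appLE V V' hV'V).hom.toAlgebra
    haveI : Algebra.FiniteType R A := HasRingHomProperty.appLE @LocallyOfFiniteType p ‹_› ⟨V, hV⟩ ⟨W, hW⟩ hWV
    haveI : IsNoetherianRing R' := IsLocallyNoetherian.component_noetherian ⟨V', hV'⟩
    let w : Spec (CommRingCat.of A) ⟶ H := hW.fromSpec
    let c : Spec (CommRingCat.of R') ⟶ Z := hV'.fromSpec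
    let a : Spec (CommRingCat.of R) ⟶ S := hV.fromSpec
    have hw : w ≫ p = Spec.map (CommRingCat.ofHom (algebraMap R A)) ≫ a := by
      rw [RingHom.algebraMap_toAlgebra, CommRingCat.ofHom_hom]
      exact (IsAffineOpen.SpecMap_appLE_fromSpec p hV hW hWV).symm
    have hc : c ≫ g = Spec.map (CommRingCat.ofHom (algebraMap R R')) ≫ a := by
      rw [RingHom.algebraMap_toAlgebra, CommRingCat.ofHom_hom]
      exact (IsAffineOpen.SpecMap_appLE_fromSpec g hV hV' hV'V).symm
    let e := chart a w c hw hc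
    refine ⟨_, e, isOpenImmersion_chart hw hc, ?_, ?_⟩
    · rw [range_chart hw hc]
      exact ⟨(hW.range_fromSpec).ge hxW, (hV'.range_fromSpec).ge hxV'⟩
    let B : (Σ d : ULift.{u} ι, Piece w (i d.down)) → Type u := fun P => Γ(N P.1.down, P.2.U)
    letI : ∀ P, Algebra R (B P) := fun P => (P.2.hom.comp (algebraMap R A)).toAlgebra
    let φ : ∀ P, A →ₐ[R] B P := fun P => { P.2.hom with commutes' := fun r => rfl }
    let b : ∀ P, Spec (CommRingCat.of (B P)) ⟶ N P.1.down := fun P => P.2.affine.fromSpec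
    have hb : ∀ P, b P ≫ i P.1.down = Spec.map (CommRingCat.ofHom (φ P).toRingHom) ≫ w := fun P => P.2.fac.symm
    have hbp : ∀ P, b P ≫ i P.1.down ≫ p = Spec.map (CommRingCat.ofHom (algebraMap R (B P))) ≫ a := fun P => by
      rw [← Category.assoc, hb P, Category.assoc, hw, ← Category.assoc, ← Spec.map_comp]
      rfl
    haveI : ∀ P, Module.Flat R (B P) := fun P => by
      have hle : P.2.U ≤ (i P.1.down ≫ p) ⁻¹ᵁ V := fun z hz => by
        obtain ⟨v, hv⟩ := P.2.le z hz
        show p (i P.1.down z) ∈ V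
        rw [← hv]
        exact hWV (hW.range_fromSpec.le ⟨v, rfl⟩)
      have h1 : ((i P.1.down ≫ p).appLE V P.2.U hle).hom.Flat :=
        HasRingHomProperty.appLE @Flat _ inferInstance ⟨V, hV⟩ ⟨P.2.U, P.2.affine⟩ hle
      have h2 : (i P.1.down ≫ p).appLE V P.2.U hle = CommRingCat.ofHom (algebraMap R (B P)) := by
        apply Spec.map_injective
        rw [← cancel_mono hV.fromSpec, IsAffineOpen.SpecMap_appLE_fromSpec _ hV P.2.affine hle]
        exact hbp P
      rw [h2] at h1
      exact RingHom.flat_algebraMap_iff.mp h1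
    obtain ⟨I, j, hj⟩ := (IsClosedImmersion.Spec_iff (R := CommRingCat.of (R' ⊗[R] A)) (f := pullback.snd y e)).mp inferInstance
    have hI : I = ⊥ := by
      refine le_bot_iff.mp fun z hz => ?_
      refine eq_zero_of_injAfter (B := B) (φ := φ) (fun q _ => ?_) R' z fun P => ?_
      · exact injAfter_of_fibDense hd a w hw B φ b (fun P => P.2.affine.range_fromSpec) hb ⟨q, ‹_›⟩
      · let θ : R' ⊗[R] A →ₐ[R] R' ⊗[R] B P := Algebra.TensorProduct.map (AlgHom.id R R') (φ P)
        have h : (Spec.map (CommRingCat.ofHom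
            (Algebra.TensorProduct.includeRight : B P →ₐ[R] R' ⊗[R] B P).toRingHom) ≫ b P ≫ i P.1.down) ≫ p =
          (Spec.map (CommRingCat.ofHom (Algebra.TensorProduct.includeLeftRingHom : R' →+* R' ⊗[R] B P)) ≫ c) ≫ g := by
          simp only [Category.assoc]
          rw [hbp P, hc, ← Category.assoc, ← Category.assoc, ← Spec.map_comp, ← Spec.map_comp]
          congr 2
          exact CommRingCat.hom_ext (Algebra.TensorProduct.includeLeftRingHom_comp_algebraMap).symm
        obtain ⟨l, hl⟩ := hy P.1.down _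
          (Spec.map (CommRingCat.ofHom (Algebra.TensorProduct.includeRight : B P →ₐ[R] R' ⊗[R] B P).toRingHom) ≫ b P)
          (Spec.map (CommRingCat.ofHom (Algebra.TensorProduct.includeLeftRingHom : R' →+* R' ⊗[R] B P)) ≫ c)
          (by rw [Category.assoc _ (b P)]; exact h)
        have hle : l ≫ y = Spec.map (CommRingCat.ofHom θ.toRingHom) ≫ e := by
          rw [hl]
          refine pullback.hom_ext ?_ ?_
          · rw [pullback.lift_fst, Category.assoc, Category.assoc, chart_fst hw hc, hb P, ← Category.assoc,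
              ← Category.assoc, ← Spec.map_comp, ← Spec.map_comp]
            congr 2
          · rw [pullback.lift_snd, Category.assoc, chart_snd hw hc, ← Category.assoc, ← Spec.map_comp]
            congr 2
            exact CommRingCat.hom_ext (RingHom.ext fun v => by simp [θ])
        obtain ⟨ψ, hψ⟩ := Spec.map_surjective (pullback.lift l (Spec.map (CommRingCat.ofHom θ.toRingHom)) hle ≫ j.hom)
        have h2 : CommRingCat.ofHom (Ideal.Quotient.mk I) ≫ ψ = CommRingCat.ofHom θ.toRingHom := by
          apply Spec.map_injective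
          rw [Spec.map_comp, hψ, Category.assoc, ← hj, pullback.lift_snd]
        show θ z = 0
        have := congrArg (fun f => f.hom z) h2
        simp [Ideal.Quotient.eq_zero_iff_mem.mpr hz] at this
        exact this.symm
    subst hI
    haveI : IsIso (Spec.map (CommRingCat.ofHom (Ideal.Quotient.mk (⊥ : Ideal (R' ⊗[R] A))))) := by
      haveI : IsIso (CommRingCat.ofHom (Ideal.Quotient.mk (⊥ : Ideal (R' ⊗[R] A)))) :=
        (ConcreteCategory.isIso_iff_bijective _).mpr ⟨RingHom.injective_iff_ker_eq_bot _ |>.mpr Ideal.mk_ker,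
          Ideal.Quotient.mk_surjective⟩
      infer_instance
    haveI : IsIso (pullback.snd y e) := by rw [hj]; infer_instance
    exact ⟨inv (pullback.snd y e) ≫ pullback.fst y e, by
      rw [Category.assoc, pullback.condition, IsIso.inv_hom_id_assoc]⟩
  choose X e he hx l hl using key
  let 𝒰 : (pullback p g).OpenCover :=
    Scheme.Cover.mkOfCovers ↥(pullback p g) X e (fun x => ⟨x, hx x⟩) he
  refine IsZariskiLocalAtTarget.of_openCover (P := MorphismProperty.isomorphisms Scheme) 𝒰 fun x => ?_
  show IsIso (pullback.snd y (e x))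
  haveI : IsSplitEpi (pullback.snd y (e x)) :=
    IsSplitEpi.mk' ⟨pullback.lift (l x) (𝟙 _) (by rw [Category.id_comp]; exact hl x), pullback.lift_snd _ _ _⟩
  exact isIso_of_mono_of_isSplitEpi _

end Groth.Agent.H21Dense
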