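import Groth.Agent.H21Dense.Contains
import Groth.Agent.H21Diag.WeilFinite
import Groth.Agent.S4101

/-!
The locus over which a scheme with a fibrewise dense family of finite flat subschemes lies in a closed subscheme.
-/

set_option autoImplicit false
set_option linter.style.haveILetI false
set_option backward.isDefEq.respectTransparency false
universe u
open CategoryTheory CategoryTheory.Limits AlgebraicGeometry

namespace Groth.Agent.H21Dense

/-- A directed family of finite flat schemes, schematically dense on the fibres, detects closed subschemes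
universally, and on a Noetherian base a single member does. -/
theorem exists_closed_contains {S H : Scheme.{u}} {ι : Type} [Nonempty ι] {p : H ⟶ S} [LocallyOfFiniteType p]
    {N : ι → Scheme.{u}} {i : ∀ d, N d ⟶ H} [∀ d, IsFinite (i d ≫ p)] [∀ d, Flat (i d ≫ p)] (hd : FibDense p N i)
    (hdir : ∀ d d', ∃ e, (∃ k, k ≫ i e = i d) ∧ ∃ k, k ≫ i e = i d')
    {Z : Scheme.{u}} [IsLocallyNoetherian Z] (g : Z ⟶ S) {Y : Scheme.{u}} (y : Y ⟶ pullback p g) [IsClosedImmersion y] :
    ∃ (T : Scheme.{u}) (t : T ⟶ Z), IsClosedImmersion t ∧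
      (∀ (S' : Scheme.{u}) (h : S' ⟶ Z), (∃ h' : S' ⟶ T, h' ≫ t = h) ↔
        ∀ (X : Scheme.{u}) (u : X ⟶ H) (v : X ⟶ S') (w : u ≫ p = (v ≫ h) ≫ g),
          ∃ l : X ⟶ Y, l ≫ y = pullback.lift u (v ≫ h) w) ∧
      (AlgebraicGeometry.IsNoetherian Z → ∃ d : ι, ∀ (S' : Scheme.{u}) (h : S' ⟶ Z),
        (∀ (X : Scheme.{u}) (u : X ⟶ H) (v : X ⟶ S') (w : u ≫ p = (v ≫ h) ≫ g),
          ∃ l : X ⟶ Y, l ≫ y = pullback.lift u (v ≫ h) w) ↔
        ∀ (X : Scheme.{u}) (u : X ⟶ N d) (v : X ⟶ S') (w : (u ≫ i d) ≫ p = (v ≫ h) ≫ g),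
          ∃ l : X ⟶ Y, l ≫ y = pullback.lift (u ≫ i d) (v ≫ h) w) := by
  classical
  -- the loci for the members of the family
  have hT : ∀ d, ∃ (T : Scheme.{u}) (t : T ⟶ Z), IsClosedImmersion t ∧
      ∀ (S' : Scheme.{u}) (h : S' ⟶ Z), (∃ h' : S' ⟶ T, h' ≫ t = h) ↔
        ∀ (X : Scheme.{u}) (u : X ⟶ N d) (v : X ⟶ S') (w : (u ≫ i d) ≫ p = (v ≫ h) ≫ g),
          ∃ l : X ⟶ Y, l ≫ y = pullback.lift (u ≫ i d) (v ≫ h) w := by
    intro d
    let f : pullback (i d ≫ p) g ⟶ Z := pullback.snd (i d ≫ p) g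
    haveI : IsFinite f := MorphismProperty.pullback_snd (P := @IsFinite) _ _ inferInstance
    haveI : Flat f := MorphismProperty.pullback_snd (P := @Flat) _ _ inferInstance
    haveI : LocallyOfFinitePresentation f := H12AlgSp.lfp_of_lft_of_isLocallyNoetherian f
    let q : pullback (i d ≫ p) g ⟶ pullback p g :=
      pullback.lift (pullback.fst _ _ ≫ i d) (pullback.snd _ _) (by rw [Category.assoc]; exact pullback.condition)
    let j := pullback.snd y q
    obtain ⟨T, t, ht, hiff, -⟩ := Groth.Agent.S4101.result Z _ _ f (H21Diag.isEssentiallyFree_of_finite f) j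
    refine ⟨T, t, ht, fun S' h => (hiff S' h).trans ⟨fun hi X u v w => ?_, fun hall => ?_⟩⟩
    · let k : X ⟶ pullback f h := pullback.lift (pullback.lift u (v ≫ h) (by rw [← Category.assoc]; exact w)) v
        (pullback.lift_snd _ _ _)
      refine ⟨k ≫ inv (pullback.snd j (pullback.fst f h)) ≫ pullback.fst j (pullback.fst f h) ≫ pullback.fst y q, ?_⟩
      simp only [Category.assoc]
      rw [pullback.condition (f := y) (g := q), pullback.condition_assoc (f := j), IsIso.inv_hom_id_assoc]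
      refine pullback.hom_ext ?_ ?_
      · simp [k, q]
      · simp [k, q]
    · let u := pullback.fst f h ≫ pullback.fst (i d ≫ p) g
      have w : (u ≫ i d) ≫ p = (pullback.snd f h ≫ h) ≫ g := by
        simp only [u, Category.assoc]
        rw [pullback.condition (f := i d ≫ p), ← pullback.condition_assoc (f := f)]
      obtain ⟨l, hl⟩ := hall _ u (pullback.snd f h) w
      have hlq : l ≫ y = pullback.fst f h ≫ q := by
        rw [hl]
        refine pullback.hom_ext ?_ ?_
        · simp [q, u]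
        · simp only [pullback.lift_snd, Category.assoc, q]
          exact pullback.condition.symm
      haveI : IsSplitEpi (pullback.snd j (pullback.fst f h)) :=
        IsSplitEpi.mk' ⟨pullback.lift (pullback.lift l (pullback.fst f h) hlq) (𝟙 _)
          (by rw [Category.id_comp]; exact pullback.lift_snd _ _ _), pullback.lift_snd _ _ _⟩
      exact isIso_of_mono_of_isSplitEpi _
  choose T t ht hiff using hT
  have hfac : ∀ d (S' : Scheme.{u}) (h : S' ⟶ Z), (∃ h' : S' ⟶ T d, h' ≫ t d = h) ↔ (t d).ker ≤ h.ker := by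
    intro d S' h
    haveI := ht d
    exact ⟨fun ⟨h', e⟩ => e ▸ h'.le_ker_comp (t d), fun hle => ⟨_, IsClosedImmersion.lift_fac (t d) h hle⟩⟩
  let J : Z.IdealSheafData := ⨆ d, (t d).ker
  have hJ : ∀ (S' : Scheme.{u}) (h : S' ⟶ Z), (∃ h' : S' ⟶ J.subscheme, h' ≫ J.subschemeι = h) ↔
      ∀ d, ∃ h' : S' ⟶ T d, h' ≫ t d = h := by
    intro S' h
    simp only [hfac]
    rw [← iSup_le_iff]
    refine ⟨fun ⟨h', e⟩ => ?_, fun hle => ⟨_, IsClosedImmersion.lift_fac J.subschemeι h ?_⟩⟩
    · have := h'.le_ker_comp J.subschemeι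
      rwa [e, Scheme.IdealSheafData.ker_subschemeι] at this
    · rwa [Scheme.IdealSheafData.ker_subschemeι]
  have hmain : ∀ (S' : Scheme.{u}) (h : S' ⟶ Z), (∃ h' : S' ⟶ J.subscheme, h' ≫ J.subschemeι = h) ↔
      ∀ (X : Scheme.{u}) (u : X ⟶ H) (v : X ⟶ S') (w : u ≫ p = (v ≫ h) ≫ g),
        ∃ l : X ⟶ Y, l ≫ y = pullback.lift u (v ≫ h) w := by
    refine fun S' h => ⟨?_, fun hall => (hJ S' h).mpr fun d => (hiff d S' h).mpr fun X u v w => hall X _ v w⟩
    rintro ⟨h', rfl⟩ X u v w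
    let τ := J.subschemeι
    haveI : IsLocallyNoetherian J.subscheme := LocallyOfFiniteType.isLocallyNoetherian τ
    let m : pullback p (τ ≫ g) ⟶ pullback p g :=
      pullback.lift (pullback.fst _ _) (pullback.snd _ _ ≫ τ) (by rw [Category.assoc]; exact pullback.condition)
    have hiso : IsIso (pullback.snd y m) := by
      refine isIso_of_contains hd (τ ≫ g) (pullback.snd y m) fun d X u v w => ?_
      obtain ⟨l, hl⟩ := (hiff d _ τ).mp ((hJ _ τ).mp ⟨𝟙 _, Category.id_comp _⟩ d) X u v (by rw [Category.assoc v τ]; exact w)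
      refine ⟨pullback.lift l (pullback.lift (u ≫ i d) v w) ?_, pullback.lift_snd _ _ _⟩
      rw [hl]
      refine pullback.hom_ext ?_ ?_
      · simp [m]
      · simp [m]
    let k : X ⟶ pullback p (τ ≫ g) := pullback.lift u (v ≫ h') (by rw [w]; simp [τ])
    refine ⟨k ≫ inv (pullback.snd y m) ≫ pullback.fst y m, ?_⟩
    simp only [Category.assoc]
    rw [pullback.condition (f := y), IsIso.inv_hom_id_assoc]
    refine pullback.hom_ext ?_ ?_
    · simp [k, m]
    · simp [k, m, τ]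
  refine ⟨J.subscheme, J.subschemeι, inferInstance, hmain, fun hN => ?_⟩
  -- a single member on a Noetherian base
  have hmono : ∀ d e, (∃ k, k ≫ i e = i d) → (t d).ker ≤ (t e).ker := by
    intro d e ⟨k, hk⟩
    refine (hfac d _ (t e)).mp ((hiff d _ (t e)).mpr fun X u v w => ?_)
    obtain ⟨l, hl⟩ := (hiff e _ (t e)).mp ⟨𝟙 _, Category.id_comp _⟩ X (u ≫ k) v (by simp only [Category.assoc, ← hk] at w ⊢; exact w)
    exact ⟨l, hl.trans (by simp only [Category.assoc, hk])⟩
  have hdir' : ∀ d d', ∃ e, (t d).ker ≤ (t e).ker ∧ (t d').ker ≤ (t e).ker := fun d d' => by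
    obtain ⟨e, h1, h2⟩ := hdir d d'
    exact ⟨e, hmono d e h1, hmono d' e h2⟩
  have hmax : ∀ U : Z.affineOpens, ∃ d, ∀ d', (t d').ker.ideal U ≤ (t d).ker.ideal U := by
    intro U
    haveI : IsNoetherianRing Γ(Z, U.1) := IsLocallyNoetherian.component_noetherian U
    obtain ⟨I, ⟨d, rfl⟩, hI⟩ := set_has_maximal_iff_noetherian.mpr (inferInstanceAs (_root_.IsNoetherian Γ(Z, U.1) Γ(Z, U.1)))
      (Set.range fun d => (t d).ker.ideal U) (Set.range_nonempty _)
    refine ⟨d, fun d' => ?_⟩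
    obtain ⟨e, h1, h2⟩ := hdir' d d'
    have := hI _ ⟨e, rfl⟩
    by_contra hne
    exact this (lt_of_le_of_ne (h1 U) fun he => hne ((h2 U).trans he.ge))
  choose D hD using hmax
  obtain ⟨s, hs⟩ := isCompact_univ.elim_finite_subcover (fun U : Z.affineOpens => (U.1 : Set Z)) (fun U => U.1.2)
    (fun x _ => by
      obtain ⟨U, hU, hx, -⟩ := exists_isAffineOpen_mem_and_subset (U := (⊤ : Z.Opens)) (x := x) trivial
      exact Set.mem_iUnion.mpr ⟨⟨U, hU⟩, hx⟩)
  have hup : ∀ s : Finset Z.affineOpens, ∃ z, ∀ U ∈ s, (t (D U)).ker ≤ (t z).ker := by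
    intro s
    induction s using Finset.induction with
    | empty => exact ⟨Classical.arbitrary ι, by simp⟩
    | @insert a s _ ih =>
      obtain ⟨z, hz⟩ := ih
      obtain ⟨e, h1, h2⟩ := hdir' (D a) z
      refine ⟨e, fun U hU => ?_⟩
      rcases Finset.mem_insert.mp hU with rfl | hU
      · exact h1
      · exact (hz U hU).trans h2
  obtain ⟨z, hz⟩ := hup s
  have hle : ∀ d, (t d).ker ≤ (t z).ker := fun d =>
    Scheme.IdealSheafData.le_of_iSup_eq_top (fun U : s => U.1) (top_le_iff.mp fun x _ => by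
      obtain ⟨U, hU, hx⟩ := Set.mem_iUnion₂.mp (hs (Set.mem_univ x))
      exact TopologicalSpace.Opens.mem_iSup.mpr ⟨⟨U, hU⟩, hx⟩) fun U => (hD U.1 d).trans (hz U.1 U.2 U.1)
  refine ⟨z, fun S' h => ?_⟩
  rw [← hmain, hJ, ← hiff]
  exact ⟨fun hall => hall z, fun hz' d => (hfac d S' h).mpr ((hle d).trans ((hfac z S' h).mp hz'))⟩

end Groth.Agent.H21Dense
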