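import Groth.Agent.H21Dense.Representable
import Groth.Prelude.Def_SGA3x

/-!
The family of torsion subschemes of a group.
-/

set_option autoImplicit false
set_option linter.style.haveILetI false
set_option backward.isDefEq.respectTransparency false
universe u
open CategoryTheory CategoryTheory.Limits MonoidalCategory CartesianMonoidalCategory MonObj AlgebraicGeometry

namespace Groth.Agent.H21Dense

variable {S : Scheme.{u}} {H : Over S} [GrpObj H]

/-- points killed by `n` are points of the kernel of the power map -/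
theorem pow_eq_one_iff {X : Over S} (x : X ⟶ H) (n : ℕ) :
    x ^ n = 1 ↔ ∃ l : X.left ⟶ pullback η[H].left (𝟙 H ^ n : H ⟶ H).left,
      l ≫ pullback.snd η[H].left (𝟙 H ^ n : H ⟶ H).left = x.left := by
  have h1 : (1 : X ⟶ H).left = X.hom ≫ η[H].left := by
    show (toUnit X ≫ η[H]).left = _
    rw [Over.comp_left]; rfl
  have h2 : (x ^ n).left = x.left ≫ (𝟙 H ^ n : H ⟶ H).left := by
    rw [← Over.comp_left, MonObj.comp_pow, Category.comp_id]
  refine ⟨fun h => ⟨pullback.lift X.hom x.left ?_, pullback.lift_snd _ _ _⟩, fun ⟨l, hl⟩ => ?_⟩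
  · exact h1.symm.trans ((congrArg (fun y : X ⟶ H => y.left) h).symm.trans h2)
  · have hη : η[H].left ≫ H.hom = 𝟙 S := Over.w η[H]
    have hl' : l ≫ pullback.fst η[H].left (𝟙 H ^ n : H ⟶ H).left = X.hom := by
      have hc := congrArg (fun z => l ≫ z ≫ H.hom) (pullback.condition (f := η[H].left) (g := (𝟙 H ^ n : H ⟶ H).left))
      simp only [Category.assoc] at hc
      erw [hη, Category.comp_id, Over.w (𝟙 H ^ n : H ⟶ H), reassoc_of% hl] at hc
      exact hc.trans (Over.w x)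
    refine Over.OverMorphism.ext ?_
    rw [h1, h2, ← hl, Category.assoc, ← pullback.condition, ← Category.assoc, hl']

theorem pow_dir {E : Set ℕ} (hEmul : ∀ m ∈ E, ∀ n ∈ E, m * n ∈ E) (d d' : E) :
    ∃ e : E, (∃ k, k ≫ pullback.snd η[H].left (𝟙 H ^ (e : ℕ) : H ⟶ H).left =
        pullback.snd η[H].left (𝟙 H ^ (d : ℕ) : H ⟶ H).left) ∧
      ∃ k, k ≫ pullback.snd η[H].left (𝟙 H ^ (e : ℕ) : H ⟶ H).left =
        pullback.snd η[H].left (𝟙 H ^ (d' : ℕ) : H ⟶ H).left := by
  refine ⟨⟨d * d', hEmul _ d.2 _ d'.2⟩, ?_, ?_⟩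
  · let x : Over.mk (pullback.snd η[H].left (𝟙 H ^ (d : ℕ) : H ⟶ H).left ≫ H.hom) ⟶ H := Over.homMk (pullback.snd _ _)
    have hx : x ^ (d : ℕ) = 1 := (pow_eq_one_iff x d).mpr ⟨𝟙 _, Category.id_comp _⟩
    exact (pow_eq_one_iff x ((d : ℕ) * d')).mp (by rw [pow_mul, hx, one_pow])
  · let x : Over.mk (pullback.snd η[H].left (𝟙 H ^ (d' : ℕ) : H ⟶ H).left ≫ H.hom) ⟶ H := Over.homMk (pullback.snd _ _)
    have hx : x ^ (d' : ℕ) = 1 := (pow_eq_one_iff x d').mpr ⟨𝟙 _, Category.id_comp _⟩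
    exact (pow_eq_one_iff x ((d : ℕ) * d')).mp (by rw [mul_comm, pow_mul, hx, one_pow])

end Groth.Agent.H21Dense
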